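import Cfsg.Agent.H954.DR.CentB
import Cfsg.Agent.H653.Sieve.Col
import Cfsg.Agent.H664.Eight.Base
import Cfsg.Agent.H859.Five.RepDeg
import Cfsg.Agent.H863.BFin
import Cfsg.Agent.BM.KHAll
import Cfsg.Agent.H995.IMBRow

/-!
# S4899: the row of the Baby Monster (helper954)

Six degrees are known: `1`, `4371`, `96255`, `9458750`, `4275362520`, `9287037474`. The column of the prime `47`
(`|C(x)| = 47`, `|N| = 47 * 23`) has two exceptional characters, and their degrees are not among the six. If there were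
only seven degrees, there would be 22 characters of degree `96255` and the exceptional degree would be `2117609`, which
does not divide the order.
-/

set_option autoImplicit false
set_option maxRecDepth 100000

open Cfsg Subgroup

namespace Cfsg.Agent.H954.DR

open Cfsg.Agent.H653.Sieve Cfsg.Agent.H664.Eight

universe u

/-- the six known degrees -/
def six : List ℕ := [1, 4371, 96255, 9458750, 4275362520, 9287037474]

/-- the possible values of the column of `47` -/
def wl : List (ℕ × ℤ) := [(0, 0), (1, 2), (46, -2), (23, -1), (24, 1)]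

open Cfsg.Agent.Monster.VecEngine Cfsg.Agent.Monster.VecSpace Cfsg.Agent.BabyM.Conc Cfsg.Agent.BabyM in
/-- The degree `4371` (a copy of helper859's proof, without its imports). -/
theorem mem_B : 4371 ∈ charDegrees Spor.BabyMonster := by
  have h1 := Cfsg.Agent.H859.Five.mem_degs_of_rep (K := H863.BRep.G) (H863.BRep.sigma (F := ℂ) two_ne_zero)
    ⟨fun _ => 1, fun h => by
      have h2 := congrFun h (Fintype.equivOfCardEq (card_lane.trans (Fintype.card_fin 4371).symm)|>.symm ⟨0, by norm_num⟩)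
      exact one_ne_zero h2⟩
    (fun U hU => H863.BFin.irred two_ne_zero U hU)
  rw [Module.finrank_fintype_fun_eq_card, card_lane] at h1
  rwa [H424.DegTools.charDegrees_congr BM.KHAll.iso.symm] at h1

theorem six_mem {S : Type u} [Group S] (h : Spor.IsoB S) : ∀ d ∈ six, d ∈ charDegrees S := by
  have : Finite S := Nat.finite_of_card_ne_zero (by rw [Cfsg.Agent.H995.IMB.card_of h]; norm_num)
  intro d hd
  unfold six at hd
  simp only [List.mem_cons, List.not_mem_nil, or_false] at hd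
  have key : ∀ {d : ℕ}, d ∈ Cfsg.Agent.H995.IMB.ds → d ∈ charDegrees S := by
    intro d hd
    obtain ⟨χ, -, h1⟩ := Cfsg.Agent.H995.IMB.deg_b h hd
    exact ⟨χ, h1⟩
  rcases hd with rfl | rfl | rfl | rfl | rfl | rfl
  · exact one_mem
  · obtain ⟨e⟩ := h
    rw [charDegrees_congr e]
    exact mem_B
  all_goals exact key (by unfold Cfsg.Agent.H995.IMB.ds; simp)

/-- **The row of the Baby Monster.** -/
theorem eight_B {S : Type u} [Group S] (h : Spor.IsoB S) : Eight S := by
  classical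
  have hcard := Cfsg.Agent.H995.IMB.card_of h
  have hfin : Finite S := Nat.finite_of_card_ne_zero (by rw [hcard]; norm_num)
  have hs : IsSimpleGroup S := by
    obtain ⟨e⟩ := h
    have hB : Cfsg.IsB Cfsg.Spor.BabyMonster := BM.KHAll.isB
    have := hB.1
    exact e.isSimpleGroup
  have hnp : ¬ (Nat.card S).Prime := by rw [hcard]; norm_num
  have hna : ¬ IsMulCommutative S := by
    intro h
    let _ : CommGroup S := { (inferInstance : Group S) with mul_comm := h.is_comm.comm }
    exact hnp (IsSimpleGroup.prime_card (α := S))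
  have : Finite (IrrCharacter S) := Characters.Core.finite_irr
  have hfI : Fintype (IrrCharacter S) := Fintype.ofFinite _
  have h47 : Fact (Nat.Prime 47) := ⟨by norm_num⟩
  obtain ⟨x, hx⟩ := exists_prime_orderOf_dvd_card' (G := S) 47 (by rw [hcard]; norm_num)
  have hc := CentB.cent47 h hx
  obtain ⟨P, W, -, -, -, hW⟩ := exists_col hna hcard hx (k := 1) (by rw [hc]) 23 2 wl 2 true (by decide +kernel)
  by_contra hlt
  have hsix := six_mem h
  have hmem : ∀ ψ : IrrCharacter S, (deg ψ % 47, W ψ) ∈ wl := hW.mem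
  have hmem' : ∀ ψ : IrrCharacter S, (deg ψ % 47 = 0 ∧ W ψ = 0) ∨ (deg ψ % 47 = 1 ∧ W ψ = 2) ∨
      (deg ψ % 47 = 46 ∧ W ψ = -2) ∨ (deg ψ % 47 = 23 ∧ W ψ = -1) ∨ (deg ψ % 47 = 24 ∧ W ψ = 1) := by
    intro ψ
    have h1 := hmem ψ
    unfold wl at h1
    simpa only [List.mem_cons, List.not_mem_nil, or_false, Prod.mk.injEq] using h1
  have hcnt : ∑ χ : IrrCharacter S, (bif Nat.beq (W χ).natAbs 1 then (1 : ℤ) else 0) = 2 := hW.cnt rfl
  have hsq : ∑ χ : IrrCharacter S, W χ * W χ = 94 := hW.sq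
  have hdeg : ∑ χ : IrrCharacter S, W χ * (deg χ : ℤ) = 0 := hW.deg
  -- an exceptional character
  obtain ⟨χ, hχ⟩ : ∃ χ : IrrCharacter S, (W χ).natAbs = 1 := by
    by_contra hno
    push Not at hno
    have h1 : ∑ χ : IrrCharacter S, (bif Nat.beq (W χ).natAbs 1 then (1 : ℤ) else 0) = 0 := by
      refine Finset.sum_eq_zero fun χ _ => ?_
      have h2 : Nat.beq (W χ).natAbs 1 = false := by
        rw [Bool.eq_false_iff]
        exact fun h3 => hno χ (Nat.eq_of_beq_eq_true h3)
      rw [h2]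
      rfl
    rw [h1] at hcnt
    norm_num at hcnt
  have hres : ∀ ψ : IrrCharacter S, (W ψ).natAbs = 1 → (deg ψ % 47 = 23 ∧ W ψ = -1) ∨ (deg ψ % 47 = 24 ∧ W ψ = 1) := by
    intro ψ hψ
    rcases hmem' ψ with ⟨h1, h2⟩ | ⟨h1, h2⟩ | ⟨h1, h2⟩ | ⟨h1, h2⟩ | ⟨h1, h2⟩
    · rw [h2] at hψ; exact absurd hψ (by decide)
    · rw [h2] at hψ; exact absurd hψ (by decide)
    · rw [h2] at hψ; exact absurd hψ (by decide)
    · exact Or.inl ⟨h1, h2⟩
    · exact Or.inr ⟨h1, h2⟩
  have hsixr : ∀ d ∈ six, d % 47 = 0 ∨ d % 47 = 1 ∨ d % 47 = 46 := by decide +kernel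
  have hχ6 : deg χ ∉ six := by
    intro h1
    have h2 := hsixr _ h1
    rcases hres χ hχ with h3 | h3 <;> omega
  have hmd : ∀ ψ : IrrCharacter S, deg ψ ∈ charDegrees S := fun ψ => ⟨ψ, rfl⟩
  have all : ∀ ψ : IrrCharacter S, deg ψ = deg χ ∨ deg ψ ∈ six := by
    intro ψ
    by_contra hno
    push Not at hno
    obtain ⟨h1, h2⟩ := hno
    refine hlt (eight_of_list (deg ψ :: deg χ :: six) ?_ ?_ ?_)
    · rw [List.nodup_cons, List.nodup_cons]
      refine ⟨?_, hχ6, by decide +kernel⟩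
      rw [List.mem_cons]
      rintro (h3 | h3)
      · exact h1 h3
      · exact h2 h3
    · simp [six]
    · intro d hd
      rw [List.mem_cons, List.mem_cons] at hd
      rcases hd with rfl | rfl | hd
      · exact hmd ψ
      · exact hmd χ
      · exact hsix d hd
  -- the degrees from the residues
  have hχr : deg χ % 47 = 23 ∨ deg χ % 47 = 24 := by
    rcases hres χ hχ with h3 | h3 <;> omega
  have hd1 : ∀ ψ : IrrCharacter S, deg ψ % 47 = 1 → ψ = (⟨1, Characters.Core.isIrr_one⟩ : IrrCharacter S) := by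
    intro ψ hψ
    have h1 : deg ψ = 1 := by
      rcases all ψ with h1 | h1
      · rw [h1] at hψ; omega
      · have : ∀ d ∈ six, d % 47 = 1 → d = 1 := by decide +kernel
        exact this _ h1 hψ
    exact Subtype.ext (one_of_deg hnp ψ h1)
  have hd46 : ∀ ψ : IrrCharacter S, deg ψ % 47 = 46 → deg ψ = 96255 := by
    intro ψ hψ
    rcases all ψ with h1 | h1
    · rw [h1] at hψ; omega
    · have : ∀ d ∈ six, d % 47 = 46 → d = 96255 := by decide +kernel
      exact this _ h1 hψ
  have hdx : ∀ ψ : IrrCharacter S, deg ψ % 47 = 23 ∨ deg ψ % 47 = 24 → deg ψ = deg χ := by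
    intro ψ hψ
    rcases all ψ with h1 | h1
    · exact h1
    · have := hsixr _ h1
      omega
  -- the two identities
  let A : IrrCharacter S → ℤ := fun ψ => if ψ = (⟨1, Characters.Core.isIrr_one⟩ : IrrCharacter S) then 1 else 0
  let B : IrrCharacter S → ℤ := fun ψ => if deg ψ = 96255 then 1 else 0
  let C : IrrCharacter S → ℤ := fun ψ => bif Nat.beq (W ψ).natAbs 1 then (1 : ℤ) else 0
  have hone : deg (⟨1, Characters.Core.isIrr_one⟩ : IrrCharacter S) = 1 := by
    show charDegree (1 : S → ℂ) = 1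
    unfold charDegree
    simp
  have hA1 : ∀ ψ : IrrCharacter S, deg ψ % 47 ≠ 1 → A ψ = 0 := by
    intro ψ hψ
    refine if_neg ?_
    rintro rfl
    rw [hone] at hψ
    exact hψ rfl
  have hB1 : ∀ ψ : IrrCharacter S, deg ψ % 47 ≠ 46 → B ψ = 0 := by
    intro ψ hψ
    refine if_neg fun h1 => ?_
    rw [h1] at hψ
    exact hψ rfl
  have key : ∀ ψ : IrrCharacter S, W ψ * W ψ = 4 * A ψ + 4 * B ψ + C ψ ∧
      W ψ * (deg ψ : ℤ) = 2 * A ψ - 192510 * B ψ + (W χ * (deg χ : ℤ)) * C ψ := by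
    intro ψ
    rcases hmem' ψ with ⟨h1, h2⟩ | ⟨h1, h2⟩ | ⟨h1, h2⟩ | ⟨h1, h2⟩ | ⟨h1, h2⟩
    · have hC : C ψ = 0 := by show (bif Nat.beq (W ψ).natAbs 1 then (1 : ℤ) else 0) = 0; rw [h2]; rfl
      rw [hA1 ψ (by omega), hB1 ψ (by omega), hC, h2]
      constructor <;> ring
    · have hC : C ψ = 0 := by show (bif Nat.beq (W ψ).natAbs 1 then (1 : ℤ) else 0) = 0; rw [h2]; rfl
      have hA : A ψ = 1 := if_pos (hd1 ψ h1)
      have hd : deg ψ = 1 := by rw [hd1 ψ h1, hone]
      rw [hA, hB1 ψ (by omega), hC, h2, hd]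
      constructor <;> norm_num
    · have hC : C ψ = 0 := by show (bif Nat.beq (W ψ).natAbs 1 then (1 : ℤ) else 0) = 0; rw [h2]; rfl
      have hB : B ψ = 1 := if_pos (hd46 ψ h1)
      rw [hA1 ψ (by omega), hB, hC, h2, hd46 ψ h1]
      constructor <;> norm_num
    · have hC : C ψ = 1 := by show (bif Nat.beq (W ψ).natAbs 1 then (1 : ℤ) else 0) = 1; rw [h2]; rfl
      have hd := hdx ψ (Or.inl h1)
      have hw : W χ = -1 := by
        rcases hres χ hχ with h3 | h3
        · exact h3.2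
        · rw [hd] at h1; omega
      rw [hA1 ψ (by omega), hB1 ψ (by omega), hC, h2, hd, hw]
      constructor <;> ring
    · have hC : C ψ = 1 := by show (bif Nat.beq (W ψ).natAbs 1 then (1 : ℤ) else 0) = 1; rw [h2]; rfl
      have hd := hdx ψ (Or.inr h1)
      have hw : W χ = 1 := by
        rcases hres χ hχ with h3 | h3
        · rw [hd] at h1; omega
        · exact h3.2
      rw [hA1 ψ (by omega), hB1 ψ (by omega), hC, h2, hd, hw]
      constructor <;> ring
  have sA : ∑ ψ : IrrCharacter S, A ψ = 1 := by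
    show ∑ ψ : IrrCharacter S, (if ψ = (⟨1, Characters.Core.isIrr_one⟩ : IrrCharacter S) then (1 : ℤ) else 0) = 1
    rw [Finset.sum_ite_eq']
    simp
  have sC : ∑ ψ : IrrCharacter S, C ψ = 2 := hcnt
  have e1 : 4 * (∑ ψ : IrrCharacter S, A ψ) + 4 * (∑ ψ : IrrCharacter S, B ψ) + (∑ ψ : IrrCharacter S, C ψ) = 94 := by
    rw [← hsq, Finset.mul_sum, Finset.mul_sum, ← Finset.sum_add_distrib, ← Finset.sum_add_distrib]
    exact Finset.sum_congr rfl fun ψ _ => (key ψ).1.symm
  have e2 : 2 * (∑ ψ : IrrCharacter S, A ψ) - 192510 * (∑ ψ : IrrCharacter S, B ψ) +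
      (W χ * (deg χ : ℤ)) * (∑ ψ : IrrCharacter S, C ψ) = 0 := by
    rw [← hdeg, Finset.mul_sum, Finset.mul_sum, Finset.mul_sum, ← Finset.sum_sub_distrib, ← Finset.sum_add_distrib]
    exact Finset.sum_congr rfl fun ψ _ => (key ψ).2.symm
  rw [sA, sC] at e1 e2
  have hn : ∑ ψ : IrrCharacter S, B ψ = 22 := by omega
  rw [hn] at e2
  have h3 : deg χ = 2117609 := by
    rcases hres χ hχ with h3 | h3
    · rw [h3.2] at e2; omega
    · rw [h3.2] at e2; omega
  have h4 : deg χ ∣ Nat.card S := Cfsg.Agent.H424.DegTools.dvd_card (hmd χ)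
  rw [h3, hcard] at h4
  norm_num at h4

end Cfsg.Agent.H954.DR
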