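import Cfsg.Agent.H967.Sph.Main
import Cfsg.Agent.H986.EqD.TauW

/-!
# The spherical machine in rank two (helper954, for S4899)

Root group data of rank two, Cartan product `3` (type `G₂`) or `2` (type `B₂`), `|X_j| = S`, `|X_i| = T`: the nontrivial
constituents of the permutation character on the cosets of `P_j = PJ {i}` (generalised hexagon, generalised quadrangle).
* `g2_low` : degree `S³ (1 + S T + S² T²) / (S² + S T + T²)`;
* `g2_pm` : degree `S T (S + 1) (T + 1) (1 + S T + u) / (2 (S + T + u))`, `u² = S T`;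
* `b2_low` : degree `S² (1 + S T) / (S + T)`; `b2_mid` : degree `S T (S + 1) (T + 1) / (S + T)`.
-/

set_option autoImplicit false

namespace Cfsg.Agent.H954.DR.RkTwo

open CoxeterSystem Cfsg.Agent.ChevalleyStructure.CoxeterGeom Cfsg.Agent.Tits.Roots Cfsg.Agent.Tits.Core
  Cfsg.Agent.Nodes.Reps Cfsg.Agent.Nodes.BNOf Cfsg.Agent.Nodes.Bruhat Cfsg.Agent.Nodes.LeviDec
open Cfsg.Agent.H967.Sph

universe u

section tabs

variable {I : Type*} [DecidableEq I] {A : I → I → ℤ} {i j : I}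

/-- the coordinates for type `G₂` -/
def xj6 : Fin 6 → ℤ := ![1, -1, 2, -2, 1, -1]

/-- the other coordinates for type `G₂` -/
def xi6 (c : ℤ) : Fin 6 → ℤ := ![0, -c, c, -c, c, 0]

/-- the vectors for type `G₂` -/
def vec6 (A : I → I → ℤ) (i j : I) (s : Fin 6) (k : I) : ℤ := if k = j then xj6 s else xi6 (A j i) s

/-- the action of the nodes -/
def sti6 : Fin 6 → Fin 6 := ![0, 2, 1, 4, 3, 5]

/-- the action of the nodes -/
def stj6 : Fin 6 → Fin 6 := ![1, 0, 3, 2, 5, 4]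

/-- **The table for type `G₂`.** -/
def tab6 (hij : i ≠ j) (hI : ∀ k, k = i ∨ k = j) (hA : A i j * A j i = 3) (hd : ∀ k, A k k = 2) : Tab A j 6 4 where
  vec := vec6 A i j
  st k s := if k = j then stj6 s else sti6 s
  cls := ![0, 1, 1, 2, 2, 3]
  o := 0
  vec_o := by
    funext k
    rcases hI k with rfl | rfl
    · simp [vec6, xi6, hij]
    · simp [vec6, xj6]
  vec_inj := by
    have hc : A j i ≠ 0 := by
      intro h0
      rw [h0] at hA
      simp at hA
    intro a b hab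
    have h1 := congrFun hab j
    have h2 := congrFun hab i
    simp only [vec6, if_true, if_neg hij] at h1 h2
    revert h1 h2
    fin_cases a <;> fin_cases b <;> simp [xj6, xi6] <;> omega
  vec_st := by
    intro k a l
    rcases hI k with rfl | rfl
    · rcases hI l with rfl | rfl
      · simp only [vec6, if_neg hij, hd]
        fin_cases a <;> simp [sti6, xi6] <;> ring
      · simp only [vec6, if_neg hij, if_true]
        fin_cases a <;> simp [sti6, xi6, xj6] <;> linarith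
    · rcases hI l with rfl | rfl
      · simp only [vec6, if_neg hij, if_true]
        fin_cases a <;> simp [stj6, xi6, xj6] <;> ring
      · simp only [vec6, if_true, hd]
        fin_cases a <;> simp [stj6, xj6]
  path := ![[], [j], [j, i], [j, i, j], [j, i, j, i], [j, i, j, i, j]]
  path_spec := by
    intro a
    fin_cases a <;> simp [hij, stj6, sti6]
  cls_st := by
    intro k hk a
    simp only [if_neg hk]
    fin_cases a <;> rfl
  crep := ![0, 1, 3, 5]
  cpath := ![[], [], [i], [], [i], []]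
  cpath_ne := by
    intro a k hk
    fin_cases a <;> simp at hk
    · rw [hk]; exact hij
    · rw [hk]; exact hij
  cpath_spec := by
    intro a
    fin_cases a <;> simp [hij, sti6]

/-- the coordinates for type `B₂` -/
def xj4 : Fin 4 → ℤ := ![1, -1, 1, -1]

/-- the other coordinates for type `B₂` -/
def xi4 (c : ℤ) : Fin 4 → ℤ := ![0, -c, c, 0]

/-- the vectors for type `B₂` -/
def vec4 (A : I → I → ℤ) (i j : I) (s : Fin 4) (k : I) : ℤ := if k = j then xj4 s else xi4 (A j i) s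

/-- the action of the nodes -/
def sti4 : Fin 4 → Fin 4 := ![0, 2, 1, 3]

/-- the action of the nodes -/
def stj4 : Fin 4 → Fin 4 := ![1, 0, 3, 2]

/-- **The table for type `B₂`.** -/
def tab4 (hij : i ≠ j) (hI : ∀ k, k = i ∨ k = j) (hA : A i j * A j i = 2) (hd : ∀ k, A k k = 2) : Tab A j 4 3 where
  vec := vec4 A i j
  st k s := if k = j then stj4 s else sti4 s
  cls := ![0, 1, 1, 2]
  o := 0
  vec_o := by
    funext k
    rcases hI k with rfl | rfl
    · simp [vec4, xi4, hij]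
    · simp [vec4, xj4]
  vec_inj := by
    have hc : A j i ≠ 0 := by
      intro h0
      rw [h0] at hA
      simp at hA
    intro a b hab
    have h1 := congrFun hab j
    have h2 := congrFun hab i
    simp only [vec4, if_true, if_neg hij] at h1 h2
    revert h1 h2
    fin_cases a <;> fin_cases b <;> simp [xj4, xi4] <;> omega
  vec_st := by
    intro k a l
    rcases hI k with rfl | rfl
    · rcases hI l with rfl | rfl
      · simp only [vec4, if_neg hij, hd]
        fin_cases a <;> simp [sti4, xi4] <;> ring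
      · simp only [vec4, if_neg hij, if_true]
        fin_cases a <;> simp [sti4, xi4, xj4] <;> linarith
    · rcases hI l with rfl | rfl
      · simp only [vec4, if_neg hij, if_true]
        fin_cases a <;> simp [stj4, xi4, xj4]
      · simp only [vec4, if_true, hd]
        fin_cases a <;> simp [stj4, xj4]
  path := ![[], [j], [j, i], [j, i, j]]
  path_spec := by
    intro a
    fin_cases a <;> simp [hij, stj4, sti4]
  cls_st := by
    intro k hk a
    simp only [if_neg hk]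
    fin_cases a <;> rfl
  crep := ![0, 1, 3]
  cpath := ![[], [], [i], []]
  cpath_ne := by
    intro a k hk
    fin_cases a <;> simp at hk
    · rw [hk]; exact hij
  cpath_spec := by
    intro a
    fin_cases a <;> simp [hij, sti4]

end tabs

section ops

variable {I : Type*} [DecidableEq I] {A : I → I → ℤ} {i j : I} (hij : i ≠ j) (hI : ∀ k, k = i ∨ k = j)

omit [DecidableEq I] in
theorem neg_of {e : ℤ} (he : e ≠ 0) (hA : A i j * A j i = e) (hle : A j i ≤ 0) : A j i < 0 := by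
  rcases hle.lt_or_eq with h | h
  · exact h
  · rw [h, mul_zero] at hA
    exact absurd hA.symm he

/-- the operator of type `G₂` -/
theorem op6 (hA : A i j * A j i = 3) (hd : ∀ k, A k k = 2) (hle : A j i ≤ 0) (q : I → ℕ) (b : Fin 4 → ℚ) (s : Fin 6) :
    (tab6 hij hI hA hd).tauD q [[j], [i, j]] (fun u => b ((tab6 hij hI hA hd).cls u)) s =
      (![(q j : ℚ) * (1 + q i) * b 1, b 0 + ((q j : ℚ) - 1) * b 1 + q j * q i * b 2,
        b 0 + ((q j : ℚ) - 1) * b 1 + q j * q i * b 2, b 1 + ((q j : ℚ) - 1) * b 2 + q j * q i * b 3,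
        b 1 + ((q j : ℚ) - 1) * b 2 + q j * q i * b 3, (1 + (q i : ℚ)) * (b 2 + ((q j : ℚ) - 1) * b 3)] : Fin 6 → ℚ) s := by
  have hc : A j i < 0 := neg_of (by norm_num) hA hle
  have hc' : ¬ 0 < A j i := not_lt.2 hle
  fin_cases s <;>
    simp [Tab.tauD, Tab.tauW, Tab.tau, tab6, vec6, xj6, xi6, stj6, sti6, hij, hc, hc'] <;> ring

/-- the operator of type `B₂` -/
theorem op4 (hA : A i j * A j i = 2) (hd : ∀ k, A k k = 2) (hle : A j i ≤ 0) (q : I → ℕ) (b : Fin 3 → ℚ) (s : Fin 4) :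
    (tab4 hij hI hA hd).tauD q [[j], [i, j]] (fun u => b ((tab4 hij hI hA hd).cls u)) s =
      (![(q j : ℚ) * (1 + q i) * b 1, b 0 + ((q j : ℚ) - 1) * b 1 + q j * q i * b 2,
        b 0 + ((q j : ℚ) - 1) * b 1 + q j * q i * b 2, (1 + (q i : ℚ)) * (b 1 + ((q j : ℚ) - 1) * b 2)] :
        Fin 4 → ℚ) s := by
  have hc : A j i < 0 := neg_of (by norm_num) hA hle
  have hc' : ¬ 0 < A j i := not_lt.2 hle
  fin_cases s <;>
    simp [Tab.tauD, Tab.tauW, Tab.tau, tab4, vec4, xj4, xi4, stj4, sti4, hij, hc, hc'] <;> ring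

end ops

section main

variable {I W : Type*} {Y : Type u} [Fintype I] [DecidableEq I] [Group W] [Finite W] [Group Y] [Finite Y]
  {M : CoxeterMatrix I} {cs : CoxeterSystem M W} {A : I → I → ℤ} {h : IsCartan M A} {p : ℕ} {T : Subgroup Y}
  {n : I → Y} {X : (I → ℤ) → Subgroup Y} (R : RGD cs h p T n X) (hG : GG cs h T X = ⊤) {i j : I} (hij : i ≠ j)
  (hI : ∀ k, k = i ∨ k = j) {s t : ℕ} (hs : Nat.card (X (sr j)) = s) (ht : Nat.card (X (sr i)) = t)

omit [Fintype I] [DecidableEq I] in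
theorem cart6 (h : IsCartan M A) {i j : I} (hij : i ≠ j) (hM : M i j = 6) : A i j * A j i = 3 ∧ A j i ≤ 0 := by
  rcases h.rel i j hij with ⟨h1, h2, h3⟩ | ⟨h1, h2, h3⟩ | ⟨h1, h2⟩ | ⟨h1, h2⟩
  · omega
  · omega
  · omega
  · rcases h2 with ⟨h2, h3⟩ | ⟨h2, h3⟩
    · rw [h2, h3]; norm_num
    · rw [h2, h3]; norm_num

omit [Fintype I] [DecidableEq I] in
theorem cart4 (h : IsCartan M A) {i j : I} (hij : i ≠ j) (hM : M i j = 4) : A i j * A j i = 2 ∧ A j i ≤ 0 := by
  rcases h.rel i j hij with ⟨h1, h2, h3⟩ | ⟨h1, h2, h3⟩ | ⟨h1, h2⟩ | ⟨h1, h2⟩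
  · omega
  · omega
  · rcases h2 with ⟨h2, h3⟩ | ⟨h2, h3⟩
    · rw [h2, h3]; norm_num
    · rw [h2, h3]; norm_num
  · omega

include R hG hij hI hs ht

/-- **Type `G₂`**, the eigenvector given. -/
theorem g2_gen (hM : M i j = 6) (hs0 : s ≠ 0) (ht0 : t ≠ 0) (θ a₁ a₂ a₃ : ℚ) (e0 : (s : ℚ) * (1 + t) * a₁ = θ)
    (e1 : 1 + ((s : ℚ) - 1) * a₁ + s * t * a₂ = θ * a₁) (e2 : a₁ + ((s : ℚ) - 1) * a₂ + s * t * a₃ = θ * a₂)
    (e3 : (1 + (t : ℚ)) * (a₂ + ((s : ℚ) - 1) * a₃) = θ * a₃) (d : ℕ)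
    (hd : (d : ℚ) * (1 + s * (1 + t) * a₁ ^ 2 + s ^ 2 * t * (1 + t) * a₂ ^ 2 + s ^ 3 * t ^ 2 * a₃ ^ 2) =
      (1 + s) * (1 + s * t + s ^ 2 * t ^ 2)) :
    ∃ χ : Y → ℂ, Cfsg.IsIrrCharacter Y χ ∧ (∀ g, ∃ r : ℚ, χ g = r) ∧ χ 1 = d := by
  obtain ⟨hA, hle⟩ := cart6 h hij hM
  have hs1 : (s : ℚ) ≠ 0 := Nat.cast_ne_zero.2 hs0
  have ht1 : (t : ℚ) ≠ 0 := Nat.cast_ne_zero.2 ht0
  have ht2 : (1 + (t : ℚ)) ≠ 0 := by positivity
  have hq : ∀ k : I, Nat.card (X (sr k)) = (fun k => if k = j then s else t) k := by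
    intro k
    rcases hI k with rfl | rfl
    · simp only [if_neg hij, ht]
    · simp only [if_true, hs]
  refine exists_char R hG (tab6 hij hI hA h.diag) _ hq [[j], [i, j]] θ ![1, a₁, a₂, a₃] rfl ?_ ?_
    (fun r => (![1, s, s * t, s ^ 2 * t, s ^ 2 * t ^ 2, s ^ 3 * t ^ 2] : Fin 6 → ℕ) r) rfl ?_ d ?_
  · intro r
    rw [op6 hij hI hA h.diag hle]
    simp only [if_true, if_neg hij]
    fin_cases r
    · simpa [tab6] using e0
    · simpa [tab6] using e1
    · simpa [tab6] using e1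
    · simpa [tab6] using e2
    · simpa [tab6] using e2
    · simpa [tab6] using e3
  · intro b hb
    have h0 := hb 0
    have h1 := hb 1
    have h2 := hb 3
    rw [op6 hij hI hA h.diag hle] at h0 h1 h2
    simp only [if_true, if_neg hij] at h0 h1 h2
    simp [tab6] at h0 h1 h2
    have k1 : b 1 = b 0 * a₁ := by
      have : (s : ℚ) * (1 + t) * (b 1 - b 0 * a₁) = 0 := by linear_combination h0 - b 0 * e0
      rcases mul_eq_zero.1 this with h3 | h3
      · exact absurd h3 (mul_ne_zero hs1 ht2)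
      · exact sub_eq_zero.1 h3
    have k2 : b 2 = b 0 * a₂ := by
      have : (s : ℚ) * t * (b 2 - b 0 * a₂) = 0 := by
        rw [k1] at h1
        linear_combination h1 - b 0 * e1
      rcases mul_eq_zero.1 this with h3 | h3
      · exact absurd h3 (mul_ne_zero hs1 ht1)
      · exact sub_eq_zero.1 h3
    have k3 : b 3 = b 0 * a₃ := by
      have : (s : ℚ) * t * (b 3 - b 0 * a₃) = 0 := by
        rw [k1, k2] at h2
        linear_combination h2 - b 0 * e2
      rcases mul_eq_zero.1 this with h3 | h3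
      · exact absurd h3 (mul_ne_zero hs1 ht1)
      · exact sub_eq_zero.1 h3
    intro c
    have hb0 : b ((tab6 hij hI hA h.diag).cls (tab6 hij hI hA h.diag).o) = b 0 := rfl
    rw [hb0]
    fin_cases c
    · simp
    · simpa using k1
    · simpa using k2
    · simpa using k3
  · intro k r hr
    have hc : A j i < 0 := neg_of (by norm_num) hA hle
    have hc' : ¬ 0 < A j i := not_lt.2 hle
    rcases hI k with rfl | rfl
    · revert hr
      fin_cases r <;> simp [tab6, vec6, xi6, sti6, stj6, hij, hc, hc'] <;> ring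
    · revert hr
      fin_cases r <;> simp [tab6, vec6, xj6, sti6, stj6] <;> ring
  · simp only [Fin.sum_univ_six]
    simp [tab6]
    linear_combination hd

/-- **Type `G₂`**, eigenvalue `-t - 1`. -/
theorem g2_low (hM : M i j = 6) (hs0 : s ≠ 0) (ht0 : t ≠ 0) (d : ℕ)
    (hd : d * (s ^ 2 + s * t + t ^ 2) = s ^ 3 * (1 + s * t + s ^ 2 * t ^ 2)) :
    ∃ χ : Y → ℂ, Cfsg.IsIrrCharacter Y χ ∧ (∀ g, ∃ r : ℚ, χ g = r) ∧ χ 1 = d := by
  have hs1 : (s : ℚ) ≠ 0 := Nat.cast_ne_zero.2 hs0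
  have hd' : (d : ℚ) * (s ^ 2 + s * t + t ^ 2) = s ^ 3 * (1 + s * t + s ^ 2 * t ^ 2) := by exact_mod_cast hd
  refine g2_gen R hG hij hI hs ht hM hs0 ht0 (-(t : ℚ) - 1) (-1 / s) (1 / s ^ 2) (-1 / s ^ 3) ?_ ?_ ?_ ?_ d ?_
  · field_simp
    ring
  · field_simp
    ring
  · field_simp
    ring
  · field_simp
    ring
  · field_simp
    linear_combination (1 + (s : ℚ)) * hd'

/-- **Type `G₂`**, eigenvalues `s - 1 ± √(s t)`. -/
theorem g2_pm (hM : M i j = 6) (hs0 : s ≠ 0) (ht0 : t ≠ 0) (u : ℚ) (hu : u ^ 2 = s * t) (d : ℕ)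
    (hd : 2 * (d : ℚ) * (s + t + u) = s * t * (s + 1) * (t + 1) * (1 + s * t + u)) :
    ∃ χ : Y → ℂ, Cfsg.IsIrrCharacter Y χ ∧ (∀ g, ∃ r : ℚ, χ g = r) ∧ χ 1 = d := by
  have hs1 : (s : ℚ) ≠ 0 := Nat.cast_ne_zero.2 hs0
  have ht1 : (t : ℚ) ≠ 0 := Nat.cast_ne_zero.2 ht0
  have ht2 : (1 + (t : ℚ)) ≠ 0 := by positivity
  have hu1 : u ≠ 0 := by
    rintro rfl
    rw [zero_pow two_ne_zero] at hu
    exact mul_ne_zero hs1 ht1 hu.symm
  have hS : (s : ℚ) = u ^ 2 / t := by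
    rw [hu]
    field_simp
  refine g2_gen R hG hij hI hs ht hM hs0 ht0 ((s : ℚ) - 1 + u) (((s : ℚ) - 1 + u) / (s * (1 + t)))
    ((u ^ 2 - u - t) / (u ^ 3 * (1 + t))) (-1 / u ^ 3) ?_ ?_ ?_ ?_ d ?_
  · field_simp
  · rw [hS]
    field_simp
    ring
  · rw [hS]
    field_simp
    ring
  · rw [hS]
    field_simp
    ring
  · have h1 : (1 + (s : ℚ) * (1 + t) * (((s : ℚ) - 1 + u) / (s * (1 + t))) ^ 2 +
        s ^ 2 * t * (1 + t) * ((u ^ 2 - u - t) / (u ^ 3 * (1 + t))) ^ 2 + s ^ 3 * t ^ 2 * (-1 / u ^ 3) ^ 2) *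
        (u ^ 2 * (1 + t)) = 2 * (1 - u + u ^ 2) * (s + t + u) := by
      rw [hS]
      field_simp
      ring
    have h2 : u ^ 2 * (1 + (t : ℚ)) ≠ 0 := mul_ne_zero (pow_ne_zero _ hu1) ht2
    apply mul_right_cancel₀ h2
    rw [mul_assoc, h1]
    have e1 : 1 + (s : ℚ) * t + s ^ 2 * t ^ 2 = 1 + u ^ 2 + u ^ 4 := by
      rw [show u ^ 4 = (u ^ 2) ^ 2 by ring, hu]
      ring
    have e2 : 2 * (d : ℚ) * (s + t + u) = u ^ 2 * (s + 1) * (t + 1) * (1 + u ^ 2 + u) := by
      rw [hd, hu]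
    rw [e1]
    linear_combination (1 - u + u ^ 2) * e2

/-- **Type `B₂`**, the eigenvector given. -/
theorem b2_gen (hM : M i j = 4) (hs0 : s ≠ 0) (ht0 : t ≠ 0) (θ a₁ a₂ : ℚ) (e0 : (s : ℚ) * (1 + t) * a₁ = θ)
    (e1 : 1 + ((s : ℚ) - 1) * a₁ + s * t * a₂ = θ * a₁)
    (e2 : (1 + (t : ℚ)) * (a₁ + ((s : ℚ) - 1) * a₂) = θ * a₂) (d : ℕ)
    (hd : (d : ℚ) * (1 + s * (1 + t) * a₁ ^ 2 + s ^ 2 * t * a₂ ^ 2) = (1 + s) * (1 + s * t)) :
    ∃ χ : Y → ℂ, Cfsg.IsIrrCharacter Y χ ∧ (∀ g, ∃ r : ℚ, χ g = r) ∧ χ 1 = d := by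
  obtain ⟨hA, hle⟩ := cart4 h hij hM
  have hs1 : (s : ℚ) ≠ 0 := Nat.cast_ne_zero.2 hs0
  have ht1 : (t : ℚ) ≠ 0 := Nat.cast_ne_zero.2 ht0
  have ht2 : (1 + (t : ℚ)) ≠ 0 := by positivity
  have hq : ∀ k : I, Nat.card (X (sr k)) = (fun k => if k = j then s else t) k := by
    intro k
    rcases hI k with rfl | rfl
    · simp only [if_neg hij, ht]
    · simp only [if_true, hs]
  refine exists_char R hG (tab4 hij hI hA h.diag) _ hq [[j], [i, j]] θ ![1, a₁, a₂] rfl ?_ ?_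
    (fun r => (![1, s, s * t, s ^ 2 * t] : Fin 4 → ℕ) r) rfl ?_ d ?_
  · intro r
    rw [op4 hij hI hA h.diag hle]
    simp only [if_true, if_neg hij]
    fin_cases r
    · simpa [tab4] using e0
    · simpa [tab4] using e1
    · simpa [tab4] using e1
    · simpa [tab4] using e2
  · intro b hb
    have h0 := hb 0
    have h1 := hb 1
    rw [op4 hij hI hA h.diag hle] at h0 h1
    simp only [if_true, if_neg hij] at h0 h1
    simp [tab4] at h0 h1
    have k1 : b 1 = b 0 * a₁ := by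
      have : (s : ℚ) * (1 + t) * (b 1 - b 0 * a₁) = 0 := by linear_combination h0 - b 0 * e0
      rcases mul_eq_zero.1 this with h3 | h3
      · exact absurd h3 (mul_ne_zero hs1 ht2)
      · exact sub_eq_zero.1 h3
    have k2 : b 2 = b 0 * a₂ := by
      have : (s : ℚ) * t * (b 2 - b 0 * a₂) = 0 := by
        rw [k1] at h1
        linear_combination h1 - b 0 * e1
      rcases mul_eq_zero.1 this with h3 | h3
      · exact absurd h3 (mul_ne_zero hs1 ht1)
      · exact sub_eq_zero.1 h3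
    intro c
    have hb0 : b ((tab4 hij hI hA h.diag).cls (tab4 hij hI hA h.diag).o) = b 0 := rfl
    rw [hb0]
    fin_cases c
    · simp
    · simpa using k1
    · simpa using k2
  · intro k r hr
    have hc : A j i < 0 := neg_of (by norm_num) hA hle
    have hc' : ¬ 0 < A j i := not_lt.2 hle
    rcases hI k with rfl | rfl
    · revert hr
      fin_cases r <;> simp [tab4, vec4, xi4, sti4, stj4, hij, hc, hc'] <;> ring
    · revert hr
      fin_cases r <;> simp [tab4, vec4, xj4, sti4, stj4] <;> ring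
  · simp only [Fin.sum_univ_four]
    simp [tab4]
    linear_combination hd

/-- **Type `B₂`**, eigenvalue `-t - 1`. -/
theorem b2_low (hM : M i j = 4) (hs0 : s ≠ 0) (ht0 : t ≠ 0) (d : ℕ) (hd : d * (s + t) = s ^ 2 * (1 + s * t)) :
    ∃ χ : Y → ℂ, Cfsg.IsIrrCharacter Y χ ∧ (∀ g, ∃ r : ℚ, χ g = r) ∧ χ 1 = d := by
  have hs1 : (s : ℚ) ≠ 0 := Nat.cast_ne_zero.2 hs0
  have hd' : (d : ℚ) * (s + t) = s ^ 2 * (1 + s * t) := by exact_mod_cast hd
  refine b2_gen R hG hij hI hs ht hM hs0 ht0 (-(t : ℚ) - 1) (-1 / s) (1 / s ^ 2) ?_ ?_ ?_ d ?_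
  · field_simp
    ring
  · field_simp
    ring
  · field_simp
    ring
  · field_simp
    linear_combination (1 + (s : ℚ)) * hd'

/-- **Type `B₂`**, eigenvalue `s - 1`. -/
theorem b2_mid (hM : M i j = 4) (hs0 : s ≠ 0) (ht0 : t ≠ 0) (d : ℕ)
    (hd : d * (s + t) = s * t * (s + 1) * (t + 1)) :
    ∃ χ : Y → ℂ, Cfsg.IsIrrCharacter Y χ ∧ (∀ g, ∃ r : ℚ, χ g = r) ∧ χ 1 = d := by
  have hs1 : (s : ℚ) ≠ 0 := Nat.cast_ne_zero.2 hs0
  have ht1 : (t : ℚ) ≠ 0 := Nat.cast_ne_zero.2 ht0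
  have ht2 : (1 + (t : ℚ)) ≠ 0 := by positivity
  have hd' : (d : ℚ) * (s + t) = s * t * (s + 1) * (t + 1) := by exact_mod_cast hd
  refine b2_gen R hG hij hI hs ht hM hs0 ht0 ((s : ℚ) - 1) (((s : ℚ) - 1) / (s * (1 + t))) (-1 / (s * t)) ?_ ?_ ?_ d ?_
  · field_simp
  · field_simp
    ring
  · field_simp
    ring
  · have h1 : (1 + (s : ℚ) * (1 + t) * (((s : ℚ) - 1) / (s * (1 + t))) ^ 2 + s ^ 2 * t * (-1 / (s * t)) ^ 2) *
        (s * t * (1 + t)) = (s + t) * (1 + s * t) := by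
      field_simp
      ring
    have h2 : (s : ℚ) * t * (1 + (t : ℚ)) ≠ 0 := mul_ne_zero (mul_ne_zero hs1 ht1) ht2
    apply mul_right_cancel₀ h2
    rw [mul_assoc, h1]
    linear_combination (1 + (s : ℚ) * t) * hd'

end main

end Cfsg.Agent.H954.DR.RkTwo
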