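import Cfsg.Agent.H954.DR.RkTwo
import Cfsg.Agent.H115.HC.TwoGTwo
import Cfsg.Agent.H664.Eight.Base
import Cfsg.Agent.H424.DegTools
import Cfsg.Agent.H167.SteinbergRGD

/-!
# S4899: `G₂(q)`, `q ≥ 4`, has at least eight character degrees (helper954)

`q (q⁴ + q² + 1) / 3`, `q (q + 1)² (q² + q + 1) / 6`, `q (q + 1)² (q² - q + 1) / 2` (unipotent characters),
`E = (q + 1) (q⁴ + q² + 1)`, `q E`, `m E`, `q⁶` and `1`.
-/

set_option autoImplicit false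

open Cfsg

namespace Cfsg.Agent.H954.DR.RowG2

open CoxeterSystem Cfsg.Agent.ChevalleyStructure.CoxeterGeom Cfsg.Agent.Tits.Roots Cfsg.Agent.Tits.Core
  Cfsg.Agent.Nodes.Reps Cfsg.Agent.Nodes.BNOf Cfsg.Agent.Nodes.Bruhat Cfsg.Agent.Nodes.LeviDec
open Cfsg.Lie Cfsg.Agent.ChevalleyStructure
  Cfsg.Agent.ChevalleyStructure.CoxeterGeomTypes
open Cfsg.Agent.Nodes.RGDChev Cfsg.Agent.H35.ExcIdx Cfsg.Agent.H115.HC.GTwo
open Cfsg.Agent.H424.DegTools (mem_charDegrees one_mem_degrees pos_of_mem)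

universe u

variable {K : Type u} [Field K] [Fintype K]

theorem six_dvd (q : ℕ) : 6 ∣ q * (q + 1) ^ 2 * (q ^ 2 + q + 1) := by
  have h : ∀ x : ZMod 6, x * (x + 1) ^ 2 * (x ^ 2 + x + 1) = 0 := by decide
  rw [← ZMod.natCast_eq_zero_iff]
  have := h (q : ZMod 6)
  push_cast
  exact this

theorem two_dvd (q : ℕ) : 2 ∣ q * (q + 1) ^ 2 * (q * (q - 1) + 1) := by
  have h : 2 ∣ q * (q + 1) := (Nat.even_mul_succ_self q).two_dvd
  rw [show q * (q + 1) ^ 2 * (q * (q - 1) + 1) = q * (q + 1) * ((q + 1) * (q * (q - 1) + 1)) by ring]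
  exact h.mul_right _

theorem three_dvd (q : ℕ) : 3 ∣ q * (q ^ 4 + q ^ 2 + 1) := by
  have h : ∀ x : ZMod 3, x * (x ^ 4 + x ^ 2 + 1) = 0 := by decide
  rw [← ZMod.natCast_eq_zero_iff]
  have := h (q : ZMod 3)
  push_cast
  exact this

/-- the three unipotent characters -/
theorem unip : ∃ d₁ d₂ d₃ : ℕ, 6 * d₁ = Fintype.card K * (Fintype.card K + 1) ^ 2 * (Fintype.card K ^ 2 + Fintype.card K + 1) ∧
    2 * d₂ = Fintype.card K * (Fintype.card K + 1) ^ 2 * (Fintype.card K * (Fintype.card K - 1) + 1) ∧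
    3 * d₃ = Fintype.card K * (Fintype.card K ^ 4 + Fintype.card K ^ 2 + 1) ∧
    d₁ ∈ charDegrees ↥(chevG2.group K) ∧ d₂ ∈ charDegrees ↥(chevG2.group K) ∧ d₃ ∈ charDegrees ↥(chevG2.group K) := by
  obtain ⟨p, hch⟩ := CharP.exists K
  obtain ⟨⟨f, hf⟩, hpp, hcard⟩ := FiniteField.card K p
  have : Fact p.Prime := ⟨hpp⟩
  have hfin := finite_W hpG2 CoxeterMatrix.G₂.toCoxeterSystem
  have R := rgd (K := K) hpG2 CoxeterMatrix.G₂.toCoxeterSystem p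
  have hG := GG_eq_top hpG2 K CoxeterMatrix.G₂.toCoxeterSystem
  have hX : ∀ i, Nat.card ↥(XX chevG2 2 K (sr i)) = Fintype.card K := by
    intro i
    rw [card_XX hpG2 K CoxeterMatrix.G₂.toCoxeterSystem (isRoot_sr _ hpG2.isCartan i), Nat.card_eq_fintype_card]
  have hq2 : 2 ≤ Fintype.card K := Fintype.one_lt_card
  have hq0 : Fintype.card K ≠ 0 := by omega
  obtain ⟨q, hq⟩ : ∃ q, q = Fintype.card K := ⟨_, rfl⟩
  rw [← hq] at hX hq2 hq0 ⊢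
  have hij : (0 : Fin 2) ≠ 1 := by decide
  have hI : ∀ k : Fin 2, k = 0 ∨ k = 1 := by decide
  have hM : CoxeterMatrix.G₂ 0 1 = 6 := by decide
  obtain ⟨d₁, h1⟩ := six_dvd q
  obtain ⟨d₂, h2⟩ := two_dvd q
  obtain ⟨d₃, h3⟩ := three_dvd q
  refine ⟨d₁, d₂, d₃, h1.symm, h2.symm, h3.symm, ?_, ?_, ?_⟩
  · obtain ⟨χ, hχ, -, h⟩ := RkTwo.g2_pm R hG hij hI (hX 1) (hX 0) hM hq0 hq0 (q : ℚ) (by ring) d₁ (by
      have : (q : ℚ) * (q + 1) ^ 2 * (q ^ 2 + q + 1) = 6 * d₁ := by exact_mod_cast h1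
      linear_combination -(q : ℚ) * this)
    exact mem_charDegrees.2 ⟨χ, hχ, h⟩
  · obtain ⟨χ, hχ, -, h⟩ := RkTwo.g2_pm R hG hij hI (hX 1) (hX 0) hM hq0 hq0 (-(q : ℚ)) (by ring) d₂ (by
      have : (q : ℚ) * (q + 1) ^ 2 * (q * (q - 1) + 1) = 2 * d₂ := by
        have h4 : ((q - 1 : ℕ) : ℚ) = (q : ℚ) - 1 := by
          rw [Nat.cast_sub (by omega), Nat.cast_one]
        rw [← h4]
        exact_mod_cast h2
      linear_combination -(q : ℚ) * this)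
    exact mem_charDegrees.2 ⟨χ, hχ, h⟩
  · obtain ⟨χ, hχ, -, h⟩ := RkTwo.g2_low R hG hij hI (hX 1) (hX 0) hM hq0 hq0 d₃ (by
      have : q ^ 2 * (q * (q ^ 4 + q ^ 2 + 1)) = q ^ 2 * (3 * d₃) := by rw [h3]
      linarith)
    exact mem_charDegrees.2 ⟨χ, hχ, h⟩

/-- the Steinberg character -/
theorem st_mem : Fintype.card K ^ 6 ∈ charDegrees ↥(chevG2.group K) := by
  obtain ⟨p, hch⟩ := CharP.exists K
  obtain ⟨⟨f, hf⟩, hpp, hcard⟩ := FiniteField.card K p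
  have hcard' : Fintype.card K = p ^ f := hcard
  have : Fact p.Prime := ⟨hpp⟩
  have : Finite ↥(chevG2.group K) := inferInstance
  obtain ⟨χ, hχ, h1⟩ := Cfsg.Agent.H167.SteinbergRGD.steinberg_of_hasRGD (hasRGD_G2 K p)
  refine mem_charDegrees.2 ⟨χ, hχ, ?_⟩
  have P : Sylow p ↥(chevG2.group K) := default
  rw [(h1 P).1]
  have h2 : Nat.card P = Fintype.card K ^ 6 := by
    rw [P.card_eq_multiplicity, Cfsg.Agent.S1059.result rfl, hcard']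
    have e0 : (p ^ f) ^ 6 = p ^ (f * 6) := (pow_mul p f 6).symm
    rw [e0]
    congr 1
    rw [← e0]
    have h2K : 2 ≤ p ^ f := two_le hpp hf.ne'
    have hne : ((p ^ f) ^ 2 - 1) * ((p ^ f) ^ 6 - 1) ≠ 0 := by
      have e1 : 2 ^ 2 ≤ (p ^ f) ^ 2 := Nat.pow_le_pow_left h2K 2
      have e2 : 2 ^ 6 ≤ (p ^ f) ^ 6 := Nat.pow_le_pow_left h2K 6
      exact Nat.mul_ne_zero (by omega) (by omega)
    have hnd : ¬ p ∣ ((p ^ f) ^ 2 - 1) * ((p ^ f) ^ 6 - 1) := by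
      have key : ∀ k : ℕ, k ≠ 0 → ¬ p ∣ (p ^ f) ^ k - 1 := by
        intro k hk hd
        have e1 : p ∣ (p ^ f) ^ k := by
          rw [← pow_mul]
          exact dvd_pow_self p (Nat.mul_ne_zero hf.ne' hk)
        have e2 : 1 ≤ (p ^ f) ^ k := Nat.one_le_pow _ _ (by omega)
        have e3 := Nat.dvd_sub e1 hd
        rw [Nat.sub_sub_self e2, Nat.dvd_one] at e3
        exact hpp.one_lt.ne' e3
      intro hd
      rcases hpp.dvd_mul.1 hd with h | h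
      · exact key 2 (by norm_num) h
      · exact key 6 (by norm_num) h
    rw [mul_assoc, Nat.factorization_mul (pow_ne_zero _ (pow_ne_zero _ hpp.ne_zero)) hne, Nat.factorization_pow,
      Nat.factorization_pow, Finsupp.add_apply, Finsupp.smul_apply, Finsupp.smul_apply, hpp.factorization_self,
      smul_eq_mul, smul_eq_mul, mul_one, Nat.factorization_eq_zero_of_not_dvd hnd, add_zero, mul_comm]
  rw [h2]

/-- arithmetic -/
theorem arith {q m d₁ d₂ d₃ : ℕ} (hq : 4 ≤ q) (h1 : 6 * d₁ = q * (q + 1) ^ 2 * (q ^ 2 + q + 1))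
    (h2 : 2 * d₂ = q * (q + 1) ^ 2 * (q * (q - 1) + 1)) (h3 : 3 * d₃ = q * (q ^ 4 + q ^ 2 + 1)) (hm0 : 0 < m)
    (hm : ∃ ℓ : ℕ, ℓ.Prime ∧ ℓ ∣ m ∧ ¬ ℓ ∣ q) :
    [1, d₁, d₃, d₂, (q + 1) * (q ^ 4 + q ^ 2 + 1), (q + 1) * (q ^ 4 + q ^ 2 + 1) * q,
      (q + 1) * (q ^ 4 + q ^ 2 + 1) * m, q ^ 6].Nodup := by
  obtain ⟨ℓ, hℓ, hℓm, hℓq⟩ := hm
  obtain ⟨k, rfl⟩ := Nat.exists_eq_add_of_le hq
  rw [show 4 + k - 1 = 3 + k by omega] at h2
  have hm2 : 2 ≤ m := by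
    have : m ≠ 1 := by
      rintro rfl
      exact hℓ.one_lt.ne' (Nat.dvd_one.1 hℓm)
    omega
  have hmq : m ≠ 4 + k := by
    rintro rfl
    exact hℓq hℓm
  obtain ⟨E, hE⟩ : ∃ E, E = (4 + k + 1) * ((4 + k) ^ 4 + (4 + k) ^ 2 + 1) := ⟨_, rfl⟩
  rw [← hE]
  have i1 : 1 < d₁ := by nlinarith [sq_nonneg (4 + k), Nat.zero_le k, Nat.zero_le (k ^ 2), Nat.zero_le (k ^ 3)]
  have i2 : d₁ < d₃ := by
    have e1 : 6 * d₁ = (4 + k) * (4 + k + 1) ^ 2 * ((4 + k) ^ 2 + (4 + k) + 1) := h1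
    have e2 : 6 * d₃ = 2 * ((4 + k) * ((4 + k) ^ 4 + (4 + k) ^ 2 + 1)) := by rw [← h3]; ring
    have e3 : (4 + k) * (4 + k + 1) ^ 2 * ((4 + k) ^ 2 + (4 + k) + 1) <
        2 * ((4 + k) * ((4 + k) ^ 4 + (4 + k) ^ 2 + 1)) := by
      have : 2 * ((4 + k) * ((4 + k) ^ 4 + (4 + k) ^ 2 + 1)) =
          (4 + k) * (4 + k + 1) ^ 2 * ((4 + k) ^ 2 + (4 + k) + 1) +
          (4 + k) * ((4 + k) ^ 2 + (4 + k) + 1) * (k ^ 2 + 4 * k + 1) := by ring
      rw [this]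
      have : 0 < (4 + k) * ((4 + k) ^ 2 + (4 + k) + 1) * (k ^ 2 + 4 * k + 1) := by positivity
      omega
    omega
  have i3 : d₃ < d₂ := by
    have e1 : 6 * d₂ = 3 * ((4 + k) * (4 + k + 1) ^ 2 * ((4 + k) * (3 + k) + 1)) := by rw [← h2]; ring
    have e2 : 6 * d₃ = 2 * ((4 + k) * ((4 + k) ^ 4 + (4 + k) ^ 2 + 1)) := by rw [← h3]; ring
    have e3 : 3 * ((4 + k) * (4 + k + 1) ^ 2 * ((4 + k) * (3 + k) + 1)) =
        2 * ((4 + k) * ((4 + k) ^ 4 + (4 + k) ^ 2 + 1)) +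
        (4 + k) * ((4 + k) * (3 + k) + 1) * ((4 + k) ^ 2 + 4 * (4 + k) + 1) := by ring
    have : 0 < (4 + k) * ((4 + k) * (3 + k) + 1) * ((4 + k) ^ 2 + 4 * (4 + k) + 1) := by positivity
    omega
  have i4 : d₂ < E := by
    have e1 : 2 * E = (4 + k) * (4 + k + 1) ^ 2 * ((4 + k) * (3 + k) + 1) +
        (4 + k + 1) * ((4 + k) * (3 + k) + 1) * ((4 + k) ^ 2 + (4 + k) + 2) := by rw [hE]; ring
    have : 0 < (4 + k + 1) * ((4 + k) * (3 + k) + 1) * ((4 + k) ^ 2 + (4 + k) + 2) := by positivity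
    omega
  have hE0 : 0 < E := by omega
  have i5 : E < E * (4 + k) := by nlinarith
  have i6 : E < E * m := by nlinarith
  have i7 : E < (4 + k) ^ 6 := by
    have e1 : (4 + k) ^ 6 = E * (3 + k) + 1 := by rw [hE]; ring
    rw [e1]
    nlinarith
  have i8 : E * (4 + k) ≠ E * m := fun h => hmq (Nat.eq_of_mul_eq_mul_left hE0 h).symm
  have hcop : ∀ x, (4 + k) ^ 6 ≠ E * x := by
    intro x hx
    have e1 : Nat.Coprime E (4 + k) := by
      have e2 : E = ((4 + k) ^ 4 + (4 + k) ^ 3 + (4 + k) ^ 2 + (4 + k) + 1) * (4 + k) + 1 := by rw [hE]; ring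
      rw [e2, Nat.coprime_mul_right_add_left]
      exact Nat.coprime_one_left _
    have e3 : E ∣ (4 + k) ^ 6 := ⟨x, hx⟩
    have e4 := Nat.Coprime.eq_one_of_dvd (e1.pow_right 6) e3
    omega
  have i9 := hcop (4 + k)
  have i10 := hcop m
  simp only [List.nodup_cons, List.mem_cons, List.not_mem_nil, or_false, not_or]
  refine ⟨⟨?_, ?_, ?_, ?_, ?_, ?_, ?_⟩, ⟨?_, ?_, ?_, ?_, ?_, ?_⟩, ⟨?_, ?_, ?_, ?_, ?_⟩, ⟨?_, ?_, ?_, ?_⟩, ⟨?_, ?_, ?_⟩,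
    ⟨?_, ?_⟩, ?_, ?_⟩ <;> first | omega | exact List.nodup_nil | simp

/-- **`G₂(q)`, `q ≥ 4`.** -/
theorem eight_four (h4 : 4 ≤ Fintype.card K) : Cfsg.Agent.H664.Eight.Eight ↥(chevG2.group K) := by
  obtain ⟨d₁, d₂, d₃, h1, h2, h3, m1, m2, m3⟩ := unip (K := K)
  obtain ⟨χ, m, c1, c2, c3⟩ := char_four h4
  obtain ⟨χ₁, χ₂, e1, e2⟩ := exists_E h4
  obtain ⟨p, hch⟩ := CharP.exists K
  obtain ⟨⟨f, hf⟩, hpp, hcard⟩ := FiniteField.card K p
  have hcard' : Fintype.card K = p ^ f := hcard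
  have hmE : (Fintype.card K + 1) * (Fintype.card K ^ 4 + Fintype.card K ^ 2 + 1) * m ∈ charDegrees ↥(chevG2.group K) :=
    ⟨χ, c1⟩
  have hm0 : 0 < m := by
    have := pos_of_mem hmE
    exact Nat.pos_of_mul_pos_left this
  have hℓ : ∃ ℓ : ℕ, ℓ.Prime ∧ ℓ ∣ m ∧ ¬ ℓ ∣ Fintype.card K := by
    by_cases h2K : (2 : K) = 0
    · have hp2 : p = 2 := by
        have h5 : ((2 : ℕ) : K) = 0 := by exact_mod_cast h2K
        rw [CharP.cast_eq_zero_iff K p] at h5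
        exact (Nat.prime_dvd_prime_iff_eq hpp Nat.prime_two).1 h5
      have hne : Fintype.card K - 1 ≠ 1 := by omega
      refine ⟨(Fintype.card K - 1).minFac, Nat.minFac_prime hne, ?_, ?_⟩
      · refine c2 _ (Nat.minFac_prime hne) ?_ (Nat.minFac_dvd _)
        intro h5
        have h6 : 2 ∣ Fintype.card K - 1 := by
          rw [← h5]
          exact Nat.minFac_dvd _
        have h7 : 2 ∣ Fintype.card K := by
          rw [hcard', hp2]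
          exact dvd_pow_self 2 hf.ne'
        omega
      · intro h5
        have h6 := Nat.dvd_sub h5 (Nat.minFac_dvd (Fintype.card K - 1))
        rw [Nat.sub_sub_self (by omega), Nat.dvd_one] at h6
        exact (Nat.minFac_prime hne).one_lt.ne' h6
    · refine ⟨2, Nat.prime_two, c3 h2K, ?_⟩
      rw [hcard']
      intro h5
      have h6 := (Nat.prime_dvd_prime_iff_eq Nat.prime_two hpp).1 (Nat.prime_two.dvd_of_dvd_pow h5)
      apply h2K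
      have h7 : ((p : ℕ) : K) = 0 := CharP.cast_eq_zero K p
      rw [← h6] at h7
      exact_mod_cast h7
  refine Cfsg.Agent.H664.Eight.eight_of_list _ (arith h4 h1 h2 h3 hm0 hℓ) (by simp) ?_
  intro d hd
  simp only [List.mem_cons, List.not_mem_nil, or_false] at hd
  rcases hd with rfl | rfl | rfl | rfl | rfl | rfl | rfl | rfl
  · exact one_mem_degrees
  · exact m1
  · exact m3
  · exact m2
  · exact ⟨χ₁, e1⟩
  · exact ⟨χ₂, e2⟩
  · exact hmE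
  · exact st_mem

end Cfsg.Agent.H954.DR.RowG2
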